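import Cfsg.Agent.SymSylow.Basic

/-!
# Elements of symmetric groups lying in a unique Sylow 2-subgroup
-/

set_option autoImplicit false

namespace Cfsg.Agent.SymSylow

open Equiv Equiv.Perm MulAction

variable {α : Type*} [Finite α]

theorem good_iff [DecidableEq α] [Fintype α] (x : Perm α) :
    Good x ↔ Fintype.card α ≤ x.support.card + 2 ∧ x.cycleType.Nodup := by
  classical
  have hper : ∀ z, x z ≠ z → period x z = (x.cycleOf z).support.card := by
    intro z hz
    have hc := isCycle_cycleOf x hz
    have key : ∀ k : ℕ, (x ^ k) z = z ↔ (x.cycleOf z).support.card ∣ k := by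
      intro k
      rw [← hc.orderOf, orderOf_dvd_iff_pow_eq_one, ← cycleOf_pow_apply_self]
      exact ⟨fun h => (hc.pow_eq_one_iff' (by rwa [cycleOf_apply_self])).2 h, fun h => by rw [h]; rfl⟩
    refine Nat.dvd_antisymm ?_ ?_
    · rw [← pow_eq_iff, key]
    · rw [← key, pow_eq_iff]
  have hfix : Nat.card {z // x z = z} + x.support.card = Fintype.card α := by
    rw [Nat.card_eq_fintype_card, Fintype.card_subtype,
      show Finset.univ.filter (fun z => x z = z) = x.supportᶜ by ext z; simp,
      Finset.card_compl]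
    have := Finset.card_le_univ x.support
    omega
  have hnd : x.cycleType.Nodup ↔
      ∀ a b, x a ≠ a → x b ≠ b → period x a = period x b → x.SameCycle a b := by
    rw [cycleType_def, Multiset.nodup_map_iff_inj_on x.cycleFactorsFinset.nodup]
    constructor
    · intro h a b ha hb hab
      have := h (x.cycleOf a) (cycleOf_mem_cycleFactorsFinset_iff.2 (mem_support.2 ha))
        (x.cycleOf b) (cycleOf_mem_cycleFactorsFinset_iff.2 (mem_support.2 hb))
        (by rw [Function.comp_apply, Function.comp_apply, ← hper a ha, ← hper b hb, hab])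
      refine (mem_support_cycleOf_iff.1 ?_).1
      rw [this, mem_support, cycleOf_apply_self]
      exact hb
    · intro h c hc d hd hcd
      obtain ⟨a, ha⟩ := (mem_cycleFactorsFinset_iff.1 hc).1.nonempty_support
      obtain ⟨b, hb⟩ := (mem_cycleFactorsFinset_iff.1 hd).1.nonempty_support
      have hca := cycle_is_cycleOf ha hc
      have hdb := cycle_is_cycleOf hb hd
      have hax : x a ≠ a := mem_support.1 (mem_cycleFactorsFinset_support_le hc ha)
      have hbx : x b ≠ b := mem_support.1 (mem_cycleFactorsFinset_support_le hd hb)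
      rw [hca, hdb]
      refine (h a b hax hbx ?_).cycleOf_eq
      rw [hper a hax, hper b hbx, ← hca, ← hdb]
      exact hcd
  rw [Good, hnd, and_comm]
  exact and_congr_left' ⟨fun h => by omega, fun h => by omega⟩

theorem not_dvd_index_centralizer {w : Perm α} (hw : Pairing w) :
    ¬ 2 ∣ (Subgroup.centralizer ({w} : Set (Perm α))).index := by
  classical
  have := Fintype.ofFinite α
  rcases isEmpty_or_nonempty α with hα | ⟨⟨z⟩⟩
  · rw [Subgroup.index_eq_one.2 (eq_top_iff.2 fun g _ => by
      rw [Subgroup.mem_centralizer_singleton_iff]; exact Subsingleton.elim _ _)]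
    norm_num
  have ho : orderOf w = 2 := orderOf_eq_prime (Equiv.ext fun y => by rw [pow_two]; exact hw.1 y)
    (fun h => hw.2 z (by rw [h]; rfl))
  obtain ⟨m, hm⟩ := cycleType_prime_order (σ := w) (by rw [ho]; exact Nat.prime_two)
  rw [ho] at hm
  have hs : w.support = Finset.univ := Finset.eq_univ_of_forall fun y => mem_support.2 (hw.2 y)
  have hcard : Fintype.card α = 2 * (m + 1) := by
    rw [← Finset.card_univ, ← hs, ← w.sum_cycleType, hm, Multiset.sum_replicate, smul_eq_mul, mul_comm]
  have hC := Equiv.Perm.nat_card_centralizer w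
  rw [hm, Multiset.sum_replicate, Multiset.prod_replicate, Multiset.toFinset_replicate,
    if_neg (Nat.succ_ne_zero m), Finset.prod_singleton, Multiset.count_replicate_self, smul_eq_mul, hcard,
    show 2 * (m + 1) - (m + 1) * 2 = 0 by omega, Nat.factorial_zero, one_mul] at hC
  have h1 := (Subgroup.centralizer ({w} : Set (Perm α))).index_mul_card
  rw [hC, Nat.card_perm, Nat.card_eq_fintype_card, hcard] at h1
  intro hd
  have : Fact (Nat.Prime 2) := ⟨Nat.prime_two⟩
  have hi0 : (Subgroup.centralizer ({w} : Set (Perm α))).index ≠ 0 := Subgroup.index_ne_zero_of_finite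
  have h2 := congrArg (padicValNat 2) h1
  rw [padicValNat.mul hi0 (by positivity), padicValNat.mul (by positivity) (Nat.factorial_ne_zero _),
    padicValNat.prime_pow, padicValNat_factorial_mul] at h2
  have := one_le_padicValNat_of_dvd hi0 hd
  omega

/-- Every even finite set carries a good permutation of `2`-power order without fixed points. -/
theorem exists_good (heven : Even (Nat.card α)) :
    ∃ x : Perm α, (∃ k : ℕ, orderOf x = 2 ^ k) ∧ Good x ∧ ∀ z, x z ≠ z := by
  classical
  have := Fintype.ofFinite α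
  rw [Nat.card_eq_fintype_card] at heven
  set n := Fintype.card α with hn
  let L : List ℕ := n.bitIndices.map (fun i => 2 ^ i)
  have hsum : (L : Multiset ℕ).sum = n := by simp [L]
  have hge : ∀ a ∈ (L : Multiset ℕ), 2 ≤ a := by
    intro a ha
    obtain ⟨i, hi, rfl⟩ := List.mem_map.1 (Multiset.mem_coe.1 ha)
    rcases i with - | i
    · exfalso
      have h1 : ∀ L' : List ℕ, L'.Nodup → 0 ∈ L' → (L'.map (fun j => 2 ^ j)).sum % 2 = 1 := by
        intro L'
        induction L' with
        | nil => simp
        | cons c L' ih =>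
          intro hnd h0
          rw [List.map_cons, List.sum_cons]
          obtain ⟨hc, hnd'⟩ := List.nodup_cons.1 hnd
          by_cases hc0 : c = 0
          · subst hc0
            have : ∀ j ∈ L'.map (fun j => 2 ^ j), 2 ∣ j := by
              intro j hj
              obtain ⟨l, hl, rfl⟩ := List.mem_map.1 hj
              exact dvd_pow_self 2 (fun h => hc (h ▸ hl))
            have := List.dvd_sum this
            simp only [pow_zero]
            omega
          · have h2 : 2 ∣ 2 ^ c := dvd_pow_self 2 hc0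
            have := ih hnd' ((List.mem_cons.1 h0).resolve_left (Ne.symm hc0))
            omega
      have := h1 _ Nat.bitIndices_sorted.nodup hi
      rw [Nat.sum_map_two_pow_bitIndices] at this
      obtain ⟨c, hc⟩ := heven
      omega
    · exact Nat.le_self_pow (Nat.succ_ne_zero i) 2
  obtain ⟨x, hx⟩ := (Equiv.Perm.exists_with_cycleType_iff α).2 ⟨hsum.le, hge⟩
  refine ⟨x, ?_, (good_iff x).2 ⟨?_, ?_⟩, ?_⟩
  · have h : orderOf x ∣ 2 ^ n := by
      rw [← lcm_cycleType, hx, Multiset.lcm_dvd]
      intro a ha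
      have hle : a ≤ n := hsum ▸ Multiset.le_sum_of_mem ha
      obtain ⟨i, -, rfl⟩ := List.mem_map.1 (Multiset.mem_coe.1 ha)
      exact pow_dvd_pow 2 ((Nat.lt_two_pow_self).le.trans hle)
    obtain ⟨k, -, hk⟩ := (Nat.dvd_prime_pow Nat.prime_two).1 h
    exact ⟨k, hk⟩
  · rw [← x.sum_cycleType, hx, hsum]
    omega
  · rw [hx, Multiset.coe_nodup]
    exact Nat.bitIndices_sorted.nodup.map (Nat.pow_right_injective le_rfl)
  · intro z
    have hsupp : x.support = Finset.univ := by
      rw [← Finset.card_eq_iff_eq_univ, ← x.sum_cycleType, hx, hsum]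
    exact mem_support.1 (hsupp ▸ Finset.mem_univ z)

/-- If the image of a `2`-group with `2`-group kernel lies in a unique Sylow subgroup, so do its
members. -/
theorem eq_of_image_unique {G H : Type*} [Group G] [Finite G] [Group H] [Finite H] {C : Subgroup G}
    (f : C →* H) (hker : IsPGroup 2 f.ker) {x : C} (hu : ∀ S S' : Sylow 2 H, f x ∈ S → f x ∈ S' → S = S')
    (P R : Sylow 2 G) (hP : (P : Subgroup G) ≤ C) (hR : (R : Subgroup G) ≤ C)
    (hxP : (x : G) ∈ P) (hxR : (x : G) ∈ R) : P = R := by
  obtain ⟨S, hS⟩ := ((P.isPGroup'.comap_of_injective C.subtype C.subtype_injective).map f).exists_le_sylow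
  obtain ⟨S', hS'⟩ := ((R.isPGroup'.comap_of_injective C.subtype C.subtype_injective).map f).exists_le_sylow
  have hSS : S = S' := hu S S' (hS ⟨x, hxP, rfl⟩) (hS' ⟨x, hxR, rfl⟩)
  subst hSS
  have hpre : IsPGroup 2 (((S : Subgroup H).comap f).map C.subtype) :=
    (S.isPGroup'.comap_of_ker_isPGroup f hker).map _
  have e1 := P.is_maximal' hpre (fun g hg => ⟨⟨g, hP hg⟩, hS ⟨⟨g, hP hg⟩, hg, rfl⟩, rfl⟩)
  have e2 := R.is_maximal' hpre (fun g hg => ⟨⟨g, hR hg⟩, hS' ⟨⟨g, hR hg⟩, hg, rfl⟩, rfl⟩)
  exact Sylow.ext (e1.symm.trans e2)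

theorem sylow_le_centralizer_pairing (P : Sylow 2 (Perm α)) (h : ∃ w : Perm α, Pairing w) :
    ∃ w : Perm α, Pairing w ∧ ∀ g ∈ P, Commute g w := by
  obtain ⟨w₀, hw₀⟩ := h
  set C := Subgroup.centralizer ({w₀} : Set (Perm α))
  obtain ⟨R⟩ : Nonempty (Sylow 2 C) := inferInstance
  have hRp : IsPGroup 2 ((R : Subgroup C).map C.subtype) := R.isPGroup'.map _
  obtain ⟨S, hS⟩ := hRp.exists_le_sylow
  have hSeq : (R : Subgroup C).map C.subtype = S := by
    refine Subgroup.eq_of_le_of_card_ge hS (le_of_eq ?_)
    rw [Nat.card_congr (Subgroup.equivMapOfInjective _ _ C.subtype_injective).symm.toEquiv,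
      R.card_eq_multiplicity, S.card_eq_multiplicity]
    congr 1
    conv_lhs => rw [← C.index_mul_card, Nat.factorization_mul Subgroup.index_ne_zero_of_finite Nat.card_pos.ne']
    rw [Finsupp.add_apply, Nat.factorization_eq_zero_of_not_dvd (not_dvd_index_centralizer hw₀), zero_add]
  obtain ⟨c, hc⟩ := MulAction.exists_smul_eq (Perm α) S P
  refine ⟨c * w₀ * c⁻¹, ⟨fun z => ?_, fun z hz => ?_⟩, fun g hg => ?_⟩
  · simp only [Perm.mul_apply, Perm.inv_def, Equiv.symm_apply_apply, hw₀.1, Equiv.apply_symm_apply]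
  · simp only [Perm.mul_apply] at hz
    exact hw₀.2 (c⁻¹ z) (by rw [Perm.inv_def, c.eq_symm_apply]; exact hz)
  · have hg' : g ∈ (c • S : Sylow 2 (Perm α)) := hc ▸ hg
    change g ∈ ((c • S : Sylow 2 (Perm α)) : Subgroup (Perm α)) at hg'
    rw [Sylow.coe_subgroup_smul] at hg'
    obtain ⟨y, hy, rfl⟩ := hg'
    obtain ⟨⟨y, hyC⟩, -, rfl⟩ := hSeq.ge hy
    show Commute (c * y * c⁻¹) (c * w₀ * c⁻¹)
    exact (show Commute y w₀ from Subgroup.mem_centralizer_singleton_iff.1 hyC).map (MulAut.conj c).toMonoidHom

theorem exists_pairing (h : Even (Nat.card α)) : ∃ w : Perm α, Pairing w := by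
  classical
  have := Fintype.ofFinite α
  obtain ⟨m, hm⟩ := h
  obtain ⟨e⟩ : Nonempty (α ≃ Fin m ⊕ Fin m) := ⟨(Fintype.equivFinOfCardEq (by rw [← Nat.card_eq_fintype_card, hm])).trans finSumFinEquiv.symm⟩
  refine ⟨(e.trans (Equiv.sumComm _ _)).trans e.symm, fun z => ?_, fun z hz => ?_⟩
  · simp
  · have := congrArg e hz
    simp only [Equiv.trans_apply, Equiv.apply_symm_apply] at this
    rcases he : e z with i | i <;> simp [he] at this

/-- **Good elements lie in only one Sylow 2-subgroup.** -/
theorem unique_of_good (n : ℕ) : ∀ (α : Type) [Finite α], Nat.card α = n → ∀ x : Perm α,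
    (∃ k : ℕ, orderOf x = 2 ^ k) → Good x → ∀ P R : Sylow 2 (Perm α), x ∈ P → x ∈ R → P = R := by
  induction n using Nat.strong_induction_on with
  | _ n ih =>
  intro α _ hn x hx hg P R hP hR
  classical
  have := Fintype.ofFinite α
  rcases Nat.eq_zero_or_pos n with rfl | hn0
  · have : IsEmpty α := Finite.card_eq_zero_iff.1 hn
    exact Sylow.ext (Subgroup.ext fun g => by rw [Subsingleton.elim g 1]; exact ⟨fun _ => one_mem _, fun _ => one_mem _⟩)
  rcases Nat.even_or_odd n with hev | hodd
  · -- pair up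
    obtain ⟨w, hw, hwP⟩ := sylow_le_centralizer_pairing P (exists_pairing (hn ▸ hev))
    obtain ⟨w', hw', hwR⟩ := sylow_le_centralizer_pairing R (exists_pairing (hn ▸ hev))
    have hww := pairing_unique hg hw hw' (hwP x hP).symm (hwR x hR).symm
    subst hww
    set C := Subgroup.centralizer ({w} : Set (Perm α)) with hC
    let s : Setoid α :=
      { r := fun a b => b = a ∨ b = w a
        iseqv := ⟨fun a => Or.inl rfl, fun {a b} h => by
          rcases h with rfl | rfl
          · exact Or.inl rfl
          · exact Or.inr (hw.1 a).symm, fun {a b c} h h' => by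
          rcases h with rfl | rfl
          · exact h'
          · rcases h' with rfl | rfl
            · exact Or.inr rfl
            · exact Or.inl (hw.1 a)⟩ }
    let β := Quotient s
    haveI : Finite β := Quotient.finite s
    have hcw : ∀ g : C, ∀ a, (g : Perm α) (w a) = w ((g : Perm α) a) := fun g a => by
      have := Subgroup.mem_centralizer_singleton_iff.1 g.2
      rw [← Perm.mul_apply, this, Perm.mul_apply]
    let mp : C → β → β := fun g => Quotient.map' (g : Perm α) (fun a b h => by
      rcases h with rfl | rfl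
      · exact Or.inl rfl
      · exact Or.inr (hcw g a))
    let fe : C → Perm β := fun g =>
      { toFun := mp g
        invFun := mp g⁻¹
        left_inv := fun q => by
          induction q using Quotient.inductionOn' with | _ a => ?_
          show Quotient.mk'' ((g : Perm α)⁻¹ ((g : Perm α) a)) = _
          rw [Perm.inv_def, Equiv.symm_apply_apply]
        right_inv := fun q => by
          induction q using Quotient.inductionOn' with | _ a => ?_
          show Quotient.mk'' ((g : Perm α) ((g : Perm α)⁻¹ a)) = _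
          rw [Perm.inv_def, Equiv.apply_symm_apply] }
    let f : C →* Perm β := MonoidHom.mk' fe (fun g h => Equiv.ext fun q => by
      induction q using Quotient.inductionOn' with | _ a => ?_
      rfl)
    have hmk : ∀ (g : C) (a : α), f g (Quotient.mk s a) = Quotient.mk s ((g : Perm α) a) := fun g a => rfl
    have hker : IsPGroup 2 f.ker := by
      rintro ⟨g, hg⟩
      refine ⟨1, Subtype.ext (Subtype.ext (Equiv.ext fun a => ?_))⟩
      show (((g ^ 2 : C) : Perm α)) a = a
      rw [SubgroupClass.coe_pow, pow_two, Perm.mul_apply]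
      have h1 := hmk g a
      rw [MonoidHom.mem_ker.1 hg] at h1
      rcases (Quotient.exact h1 : (g : Perm α) a = a ∨ (g : Perm α) a = w a) with h2 | h2
      · rw [h2, h2]
      · rw [h2, hcw, h2, hw.1]
    have hxC : x ∈ C := Subgroup.mem_centralizer_singleton_iff.2 (hwP x hP)
    have hPC : (P : Subgroup (Perm α)) ≤ C := fun g hg' =>
      Subgroup.mem_centralizer_singleton_iff.2 (hwP g hg')
    have hRC : (R : Subgroup (Perm α)) ≤ C := fun g hg' =>
      Subgroup.mem_centralizer_singleton_iff.2 (hwR g hg')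
    have hcx : Commute w x := (hwP x hP).symm
    have hβ : Nat.card β < n := by
      rw [← hn, Nat.card_eq_fintype_card, Nat.card_eq_fintype_card]
      obtain ⟨z⟩ : Nonempty α := Finite.card_pos_iff.1 (hn ▸ hn0)
      exact Fintype.card_lt_of_surjective_not_injective (Quotient.mk s) Quotient.mk_surjective
        fun h => hw.2 z (h (Quotient.sound (s := s) (Or.inr rfl))).symm
    have hxk : ∀ k : ℕ, ∀ a, f (⟨x, hxC⟩ ^ k) (Quotient.mk s a) = Quotient.mk s ((x ^ k) a) := fun k a => by
      rw [hmk, SubgroupClass.coe_pow]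
    set x' := f ⟨x, hxC⟩ with hx'
    have hx'o : ∃ k : ℕ, orderOf x' = 2 ^ k := by
      obtain ⟨k, hk⟩ := hx
      have h1 : x' ^ 2 ^ k = 1 := by
        rw [hx', ← map_pow, show (⟨x, hxC⟩ : C) ^ 2 ^ k = 1 from Subtype.ext (by
          rw [SubgroupClass.coe_pow, ← hk, pow_orderOf_eq_one]; rfl), map_one]
      obtain ⟨i, -, hi⟩ := (Nat.dvd_prime_pow Nat.prime_two).1 (orderOf_dvd_of_pow_eq_one h1)
      exact ⟨i, hi⟩
    -- moved points and their periods
    have hmoved : ∀ a, x' (Quotient.mk s a) ≠ Quotient.mk s a →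
        x a ≠ a ∧ period x a = 2 * period x' (Quotient.mk s a) := by
      intro a ha
      have hxa : x a ≠ a := fun h => ha (by rw [hx', hmk]; exact congrArg _ h)
      refine ⟨hxa, ?_⟩
      obtain ⟨hhalf, t, ht⟩ := pairing_apply_of_sameCycle hw hcx (hg.1 a (w a) hxa
        (fun h => hxa (w.injective (by rw [← Perm.mul_apply, hcx.eq, Perm.mul_apply, h])))
        (period_commute hcx a).symm)
      rw [ht, Nat.mul_div_cancel_left _ two_pos] at hhalf
      have hiff : ∀ k, period x' (Quotient.mk s a) ∣ k ↔ t ∣ k := by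
        intro k
        rw [← pow_eq_iff, hx', ← map_pow, hxk]
        constructor
        · intro h
          rcases (Quotient.exact h.symm : (x ^ k) a = a ∨ (x ^ k) a = w a) with h2 | h2
          · rw [pow_eq_iff, ht] at h2
            exact (dvd_mul_left t 2).trans h2
          · rw [hhalf] at h2
            rcases le_total t k with hle | hle
            · obtain ⟨d, rfl⟩ := Nat.exists_eq_add_of_le hle
              rw [pow_add, Perm.mul_apply] at h2
              have h3 := (x ^ t).injective h2
              rw [pow_eq_iff, ht] at h3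
              exact (Nat.dvd_add_right dvd_rfl).2 ((dvd_mul_left t 2).trans h3)
            · obtain ⟨d, rfl⟩ := Nat.exists_eq_add_of_le hle
              rw [pow_add, Perm.mul_apply] at h2
              have h3 := ((x ^ k).injective h2).symm
              rw [pow_eq_iff, ht] at h3
              exact (Nat.dvd_add_left ((dvd_mul_left _ 2).trans h3)).1 dvd_rfl
        · rintro ⟨d, rfl⟩
          apply Quotient.sound
          show a = (x ^ (t * d)) a ∨ a = w ((x ^ (t * d)) a)
          rcases Nat.even_or_odd' d with ⟨e, rfl | rfl⟩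
          · left
            exact ((pow_eq_iff x _ a).2 (ht ▸ ⟨e, by ring⟩)).symm
          · right
            rw [show t * (2 * e + 1) = t + 2 * t * e by ring, pow_add, Perm.mul_apply,
              (pow_eq_iff x _ a).2 (ht ▸ ⟨e, rfl⟩), ← hhalf, hw.1]
      rw [ht, Nat.dvd_antisymm ((hiff t).2 dvd_rfl) ((hiff _).1 dvd_rfl)]
    have hg' : Good x' := by
      refine ⟨fun A B hA hB hAB => ?_, ?_⟩
      · induction A using Quotient.inductionOn with | _ a => ?_
        induction B using Quotient.inductionOn with | _ b => ?_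
        obtain ⟨ha, hpa⟩ := hmoved a hA
        obtain ⟨hb, hpb⟩ := hmoved b hB
        obtain ⟨k, rfl⟩ := (sameCycle_iff x a b).1 (hg.1 a b ha hb (by rw [hpa, hpb, hAB]))
        exact (sameCycle_iff x' _ _).2 ⟨k, by rw [hx', ← map_pow, hxk]⟩
      · -- fixed blocks
        by_contra hlt
        obtain ⟨A, B, D, hAB, hAD, hBD⟩ : ∃ A B D : {q // x' q = q}, A ≠ B ∧ A ≠ D ∧ B ≠ D := by
          haveI := Fintype.ofFinite {q // x' q = q}
          rw [Nat.card_eq_fintype_card, not_le] at hlt
          exact Fintype.two_lt_card_iff.1 hlt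
        have hfb : ∀ q : {q // x' q = q}, ∃ a, Quotient.mk s a = q.1 ∧ ((x a = a) ∨ (x a = w a ∧ x a ≠ a)) := by
          rintro ⟨q, hq⟩
          induction q using Quotient.inductionOn with | _ a => ?_
          refine ⟨a, rfl, ?_⟩
          rw [hx', hmk] at hq
          rcases (Quotient.exact hq.symm : x a = a ∨ x a = w a) with h | h
          · exact Or.inl h
          · exact Or.inr ⟨h, h ▸ hw.2 a⟩
        have hsame : ∀ a b, ((x a = a) ∧ x b = b) ∨ ((x a = w a ∧ x a ≠ a) ∧ (x b = w b ∧ x b ≠ b)) →
            Quotient.mk s a = Quotient.mk s b := by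
          rintro a b (⟨ha, hb⟩ | ⟨⟨ha, ha'⟩, hb, hb'⟩)
          · apply Quotient.sound
            show b = a ∨ b = w a
            by_contra hh
            push Not at hh
            have hwa : x (w a) = w a := by rw [← Perm.mul_apply, ← hcx.eq, Perm.mul_apply, ha]
            have h3 : 3 ≤ Nat.card {z // x z = z} := by
              rw [Nat.card_eq_fintype_card, Fintype.card_subtype]
              have hsub : ({b, a, w a} : Finset α) ⊆ Finset.univ.filter fun y => x y = y := by
                intro y hy
                simp only [Finset.mem_insert, Finset.mem_singleton] at hy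
                rcases hy with rfl | rfl | rfl <;> simp [ha, hb, hwa]
              refine le_trans ?_ (Finset.card_le_card hsub)
              rw [Finset.card_insert_of_notMem (by simp [hh.1, hh.2]), Finset.card_pair (hw.2 a).symm]
            have := hg.2
            omega
          · have hp2 : ∀ c, x c = w c → x c ≠ c → period x c = 2 := by
              intro c hc hc'
              have h2 : period x c ∣ 2 := by
                rw [← pow_eq_iff, pow_two, Perm.mul_apply, hc, ← Perm.mul_apply, ← hcx.eq, Perm.mul_apply, hc, hw.1]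
              rcases (Nat.dvd_prime Nat.prime_two).1 h2 with h | h
              · exact absurd ((period_eq_one x c).1 h) hc'
              · exact h
            obtain ⟨k, rfl⟩ := (sameCycle_iff x a b).1 (hg.1 a b ha' hb' (by rw [hp2 a ha ha', hp2 b hb hb']))
            apply Quotient.sound
            show (x ^ k) a = a ∨ (x ^ k) a = w a
            rcases Nat.even_or_odd' k with ⟨e, rfl | rfl⟩
            · exact Or.inl ((pow_eq_iff x _ a).2 (hp2 a ha ha' ▸ dvd_mul_right 2 e))
            · right
              rw [show 2 * e + 1 = 1 + 2 * e by ring, pow_add, Perm.mul_apply, pow_one,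
                (pow_eq_iff x _ a).2 (hp2 a ha ha' ▸ dvd_mul_right 2 e), ha]
        obtain ⟨a, hA, ha⟩ := hfb A
        obtain ⟨b, hB, hb⟩ := hfb B
        obtain ⟨d, hD, hd⟩ := hfb D
        rcases ha with ha | ha <;> rcases hb with hb | hb <;> rcases hd with hd | hd
        all_goals first
          | exact hAB (Subtype.ext (by rw [← hA, ← hB]; exact hsame a b (Or.inl ⟨ha, hb⟩)))
          | exact hAB (Subtype.ext (by rw [← hA, ← hB]; exact hsame a b (Or.inr ⟨ha, hb⟩)))
          | exact hAD (Subtype.ext (by rw [← hA, ← hD]; exact hsame a d (Or.inl ⟨ha, hd⟩)))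
          | exact hAD (Subtype.ext (by rw [← hA, ← hD]; exact hsame a d (Or.inr ⟨ha, hd⟩)))
          | exact hBD (Subtype.ext (by rw [← hB, ← hD]; exact hsame b d (Or.inl ⟨hb, hd⟩)))
          | exact hBD (Subtype.ext (by rw [← hB, ← hD]; exact hsame b d (Or.inr ⟨hb, hd⟩)))
    exact eq_of_image_unique f hker (x := ⟨x, hxC⟩)
      (fun S S' h1 h2 => ih _ hβ β rfl x' hx'o hg' S S' h1 h2) P R hPC hRC hP hR
  · -- a common fixed point
    have hfixP : ∀ Q : Sylow 2 (Perm α), ∃ a, ∀ g ∈ Q, g a = a := by
      intro Q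
      haveI : Fact (Nat.Prime 2) := ⟨Nat.prime_two⟩
      obtain ⟨a, ha⟩ := Q.isPGroup'.nonempty_fixed_point_of_prime_not_dvd_card α
        (by rw [hn]; exact hodd.not_two_dvd_nat)
      exact ⟨a, fun g hg' => ha ⟨g, hg'⟩⟩
    obtain ⟨a, ha⟩ := hfixP P
    obtain ⟨b, hb⟩ := hfixP R
    have hcardfix : Odd (Nat.card {z // x z = z}) := by
      haveI : Fact (Nat.Prime 2) := ⟨Nat.prime_two⟩
      have hp : IsPGroup 2 (Subgroup.zpowers x) := P.isPGroup'.to_le (Subgroup.zpowers_le.2 hP)
      have h1 := hp.card_modEq_card_fixedPoints α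
      have he : Nat.card (MulAction.fixedPoints (Subgroup.zpowers x) α) = Nat.card {z // x z = z} := by
        refine Nat.card_congr (Equiv.subtypeEquivRight fun z => ⟨fun h => h ⟨x, Subgroup.mem_zpowers x⟩, fun h => ?_⟩)
        rintro ⟨g, hg'⟩
        obtain ⟨k, rfl⟩ := Subgroup.mem_zpowers_iff.1 hg'
        show (x ^ k) z = z
        exact Equiv.Perm.zpow_apply_eq_self_of_apply_eq_self h k
      rw [he, hn] at h1
      unfold Nat.ModEq at h1
      rw [Nat.odd_iff] at hodd ⊢
      omega
    have hab : a = b := by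
      by_contra hne
      have h2 : 2 ≤ Nat.card {z // x z = z} := by
        rw [Nat.card_eq_fintype_card]
        exact Fintype.one_lt_card_iff.2 ⟨⟨a, ha x hP⟩, ⟨b, hb x hR⟩, fun h => hne (congrArg Subtype.val h)⟩
      have h3 := hg.2
      rw [Nat.odd_iff] at hcardfix
      omega
    subst hab
    set C := MulAction.stabilizer (Perm α) a with hC
    let β := {z : α // z ≠ a}
    have hst : ∀ g : C, ∀ z, z ≠ a ↔ (g : Perm α) z ≠ a := by
      intro g z
      have h1 : (g : Perm α) a = a := g.2
      constructor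
      · exact fun h h' => h ((g : Perm α).injective (h'.trans h1.symm))
      · exact fun h h' => h (by rw [h', h1])
    let f : C →* Perm β := MonoidHom.mk' (fun g => (g : Perm α).subtypePerm fun z => (hst g z).symm)
      (fun g h => Equiv.ext fun z => Subtype.ext rfl)
    have hker : IsPGroup 2 f.ker := by
      rintro ⟨g, hg⟩
      refine ⟨0, Subtype.ext (Subtype.ext (Equiv.ext fun z => ?_))⟩
      rw [pow_zero, pow_one]
      by_cases hz : z = a
      · rw [hz]; exact g.2
      · exact congrArg Subtype.val (Equiv.congr_fun (MonoidHom.mem_ker.1 hg) ⟨z, hz⟩)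
    have hPC : (P : Subgroup (Perm α)) ≤ C := ha
    have hRC : (R : Subgroup (Perm α)) ≤ C := hb
    set x' := f ⟨x, hPC hP⟩ with hx'
    have hxa : x a = a := ha x hP
    have hval : ∀ z : β, ((x' z : β) : α) = x z := fun z => rfl
    have hk : ∀ (k : ℕ) (z : β), (((x' ^ k) z : β) : α) = (x ^ k) z := by
      intro k
      induction k with
      | zero => intro z; rfl
      | succ k ih => intro z; rw [pow_succ', pow_succ', Perm.mul_apply, Perm.mul_apply, hval, ih]
    have hper : ∀ z : β, period x' z = period x z.1 := fun z => Nat.dvd_antisymm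
      (by rw [← pow_eq_iff]; exact Subtype.ext ((hk _ z).trans ((pow_eq_iff x _ _).2 dvd_rfl)))
      (by rw [← pow_eq_iff, ← hk, (pow_eq_iff x' _ _).2 dvd_rfl])
    have hg' : Good x' := by
      refine ⟨fun A B hA hB hAB => ?_, le_trans ?_ hg.2⟩
      · obtain ⟨k, hk'⟩ := (sameCycle_iff x _ _).1 (hg.1 A.1 B.1 (fun h => hA (Subtype.ext h))
          (fun h => hB (Subtype.ext h)) (by rw [← hper, ← hper, hAB]))
        exact (sameCycle_iff x' A B).2 ⟨k, Subtype.ext ((hk k A).trans hk')⟩
      · exact Nat.card_le_card_of_injective (fun q => (⟨q.1.1, congrArg Subtype.val q.2⟩ : {z // x z = z}))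
          fun q q' h => Subtype.ext (Subtype.ext (congrArg (fun r : {z // x z = z} => r.1) h))
    have hx'o : ∃ k : ℕ, orderOf x' = 2 ^ k := by
      obtain ⟨k, hk0⟩ := hx
      obtain ⟨i, -, hi⟩ := (Nat.dvd_prime_pow Nat.prime_two).1
        (orderOf_dvd_of_pow_eq_one (n := 2 ^ k) (Equiv.ext fun z => Subtype.ext (by
          rw [hk, ← hk0, pow_orderOf_eq_one]; rfl)))
      exact ⟨i, hi⟩
    have hβ : Nat.card β < n := by
      rw [← hn, Nat.card_eq_fintype_card, Nat.card_eq_fintype_card]
      exact Fintype.card_subtype_lt (x := a) (by simp)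
    exact eq_of_image_unique f hker (x := ⟨x, hPC hP⟩)
      (fun S S' h1 h2 => ih _ hβ β rfl x' hx'o hg' S S' h1 h2) P R hPC hRC hP hR

/-- **Elements in only one Sylow 2-subgroup are good.** -/
theorem good_of_unique (α : Type) [Finite α] (x : Perm α) (hx : ∃ k : ℕ, orderOf x = 2 ^ k)
    (hu : ∀ P R : Sylow 2 (Perm α), x ∈ P → x ∈ R → P = R) : Good x := by
  classical
  have := Fintype.ofFinite α
  haveI : Fact (Nat.Prime 2) := ⟨Nat.prime_two⟩
  obtain ⟨k, hk⟩ := hx
  have hxp : IsPGroup 2 (Subgroup.zpowers x) := IsPGroup.of_card (n := k) (by rw [Nat.card_zpowers, hk])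
  obtain ⟨P, hP0⟩ := hxp.exists_le_sylow
  have hP : x ∈ P := hP0 (Subgroup.mem_zpowers x)
  by_contra hbad
  -- even case: the pairing centralised by `P` is the only one commuting with `x`
  have heven : ∀ (γ : Type) [Finite γ], Even (Nat.card γ) → ∀ y : Perm γ, (∃ k : ℕ, orderOf y = 2 ^ k) →
      (∀ P R : Sylow 2 (Perm γ), y ∈ P → y ∈ R → P = R) → Good y := by
    intro γ _ hγ y hy huy
    by_contra hnot
    obtain ⟨j, hj⟩ := id hy
    have hyp : IsPGroup 2 (Subgroup.zpowers y) := IsPGroup.of_card (n := j) (by rw [Nat.card_zpowers, hj])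
    obtain ⟨Q, hQ0⟩ := hyp.exists_le_sylow
    have hQ : y ∈ Q := hQ0 (Subgroup.mem_zpowers y)
    obtain ⟨w, hw, hwQ⟩ := sylow_le_centralizer_pairing Q (exists_pairing hγ)
    obtain ⟨w', hw', hc', hne⟩ := exists_ne_pairing hy hnot hw (hwQ y hQ).symm
    -- `Q` centralises `w'` too
    set C := Subgroup.centralizer ({w'} : Set (Perm γ)) with hCdef
    have hyC : y ∈ C := Subgroup.mem_centralizer_singleton_iff.2 hc'.symm
    obtain ⟨S, hS⟩ := ((hyp.comap_of_injective C.subtype C.subtype_injective)).exists_le_sylow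
    obtain ⟨R, hR⟩ := (S.isPGroup'.map C.subtype).exists_le_sylow
    have hReq : (S : Subgroup C).map C.subtype = R := by
      refine Subgroup.eq_of_le_of_card_ge hR (le_of_eq ?_)
      rw [Nat.card_congr (Subgroup.equivMapOfInjective _ _ C.subtype_injective).symm.toEquiv,
        S.card_eq_multiplicity, R.card_eq_multiplicity]
      congr 1
      conv_lhs => rw [← C.index_mul_card, Nat.factorization_mul Subgroup.index_ne_zero_of_finite Nat.card_pos.ne']
      rw [Finsupp.add_apply, Nat.factorization_eq_zero_of_not_dvd (not_dvd_index_centralizer hw'), zero_add]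
    have hQR : Q = R := huy Q R hQ (hR ⟨⟨y, hyC⟩, hS (Subgroup.mem_zpowers y), rfl⟩)
    obtain ⟨x₀, ⟨i, hi⟩, hg₀, -⟩ := exists_good hγ
    obtain ⟨T, hT⟩ := (IsPGroup.of_card (n := i) (by rw [Nat.card_zpowers, hi]) :
      IsPGroup 2 (Subgroup.zpowers x₀)).exists_le_sylow
    obtain ⟨c, hc⟩ := MulAction.exists_smul_eq (Perm γ) T Q
    have hmem : c * x₀ * c⁻¹ ∈ Q := by
      rw [← hc]
      show c * x₀ * c⁻¹ ∈ ((c • T : Sylow 2 (Perm γ)) : Subgroup (Perm γ))
      rw [Sylow.coe_subgroup_smul]
      exact ⟨x₀, hT (Subgroup.mem_zpowers x₀), rfl⟩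
    have hcm : Commute (c * x₀ * c⁻¹) w' := by
      have h1 : c * x₀ * c⁻¹ ∈ (S : Subgroup C).map C.subtype := hReq.ge (hQR ▸ hmem)
      obtain ⟨⟨z, hzC⟩, -, hz⟩ := h1
      rw [← hz]
      exact Subgroup.mem_centralizer_singleton_iff.1 hzC
    have hconjP : ∀ u : Perm γ, Pairing u → Pairing (c⁻¹ * u * c) := fun u hu' =>
      ⟨fun z => by simp only [Perm.mul_apply, Perm.inv_def, Equiv.apply_symm_apply, hu'.1, Equiv.symm_apply_apply],
        fun z h => hu'.2 (c z) (by
          simp only [Perm.mul_apply, Perm.inv_def, Equiv.symm_apply_eq] at h; exact h)⟩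
    have hback : ∀ u : Perm γ, Commute (c * x₀ * c⁻¹) u → Commute (c⁻¹ * u * c) x₀ := fun u hu' => by
      have := hu'.symm.map (MulAut.conj c⁻¹).toMonoidHom
      simpa [mul_assoc] using this
    have heq := pairing_unique hg₀ (hconjP w hw) (hconjP w' hw') (hback w (hwQ _ hmem)) (hback w' hcm)
    exact hne (mul_left_cancel (mul_right_cancel heq)).symm
  rcases Nat.even_or_odd (Nat.card α) with hev | hodd
  · exact hbad (heven α hev x ⟨k, hk⟩ hu)
  obtain ⟨a, ha⟩ := hxp.nonempty_fixed_point_of_prime_not_dvd_card α hodd.not_two_dvd_nat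
  have hxa : x a = a := ha ⟨x, Subgroup.mem_zpowers x⟩
  -- every fixed point of `x` is fixed by `P`
  have hall : ∀ b, x b = b → ∀ g ∈ P, g b = b := by
    intro b hb
    set C := MulAction.stabilizer (Perm α) b with hCdef
    have hxC : x ∈ C := hb
    obtain ⟨S, hS⟩ := ((hxp.comap_of_injective C.subtype C.subtype_injective)).exists_le_sylow
    obtain ⟨R, hR⟩ := (S.isPGroup'.map C.subtype).exists_le_sylow
    have hReq : (S : Subgroup C).map C.subtype = R := by
      refine Subgroup.eq_of_le_of_card_ge hR (le_of_eq ?_)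
      rw [Nat.card_congr (Subgroup.equivMapOfInjective _ _ C.subtype_injective).symm.toEquiv,
        S.card_eq_multiplicity, R.card_eq_multiplicity]
      congr 1
      conv_lhs => rw [← C.index_mul_card, Nat.factorization_mul Subgroup.index_ne_zero_of_finite Nat.card_pos.ne']
      rw [Finsupp.add_apply, Nat.factorization_eq_zero_of_not_dvd (n := C.index) ?_, zero_add]
      rw [hCdef, index_stabilizer_of_transitive]
      exact hodd.not_two_dvd_nat
    have hPR : P = R := hu P R hP (hR ⟨⟨x, hxC⟩, hS (Subgroup.mem_zpowers x), rfl⟩)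
    intro g hg'
    obtain ⟨⟨z, hzC⟩, -, hz⟩ := hReq.ge (hPR ▸ hg')
    rw [← hz]; exact hzC
  -- the stabiliser of `a`
  set C := MulAction.stabilizer (Perm α) a with hC
  let β := {z : α // z ≠ a}
  let e : Perm β →* Perm α := Equiv.Perm.ofSubtype
  have he : Function.Injective e := Equiv.Perm.ofSubtype_injective
  have heC : ∀ g : Perm β, e g a = a := fun g =>
    Equiv.Perm.ofSubtype_apply_of_not_mem g (fun h : a ≠ a => h rfl)
  have hmov : ∀ z, z ≠ a ↔ x z ≠ a := fun z =>
    ⟨fun h h' => h (x.injective (h'.trans hxa.symm)), fun h h' => h (by rw [h', hxa])⟩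
  set x' : Perm β := x.subtypePerm fun z => (hmov z).symm with hx'
  have hex : e x' = x := Equiv.Perm.ofSubtype_subtypePerm _ fun z hz h => hz (h ▸ hxa)
  have hkk : ∀ (i : ℕ) (z : β), (((x' ^ i) z : β) : α) = (x ^ i) z := by
    intro i z
    rw [← hex, ← map_pow, Equiv.Perm.ofSubtype_apply_coe]
  have hβ : Even (Nat.card β) := by
    have h1 : Nat.card β + 1 = Nat.card α := by
      rw [Nat.card_eq_fintype_card, Nat.card_eq_fintype_card, Fintype.card_subtype_compl, Fintype.card_subtype_eq]
      have : 0 < Fintype.card α := Fintype.card_pos_iff.2 ⟨a⟩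
      omega
    rcases Nat.even_or_odd (Nat.card β) with h | h
    · exact h
    · exact absurd (h1 ▸ h.add_one : Even (Nat.card α)) (Nat.not_even_iff_odd.2 hodd)
  have hgood' : Good x' := by
    refine heven β hβ x' ⟨k, ?_⟩ ?_
    · rw [← hk, ← hex, orderOf_injective e he]
    · intro S S' hS hS'
      obtain ⟨R, hR⟩ := (S.isPGroup'.map e).exists_le_sylow
      obtain ⟨R', hR'⟩ := (S'.isPGroup'.map e).exists_le_sylow
      have hRR : R = R' := hu R R' (hR ⟨x', hS, hex⟩) (hR' ⟨x', hS', hex⟩)
      subst hRR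
      have hpre := R.isPGroup'.comap_of_injective e he
      exact Sylow.ext ((S.is_maximal' hpre (fun g hg' => hR ⟨g, hg', rfl⟩)).symm.trans
        (S'.is_maximal' hpre (fun g hg' => hR' ⟨g, hg', rfl⟩)))
  -- `P` contains an element with just one fixed point
  have hone : ∀ b, x b = b → b = a := by
    intro b hb
    by_contra hne
    obtain ⟨t, ⟨i, hi⟩, -, htf⟩ := exists_good (α := β) hβ
    obtain ⟨T', hT'⟩ := (IsPGroup.of_card (n := i) (by rw [Nat.card_zpowers, orderOf_injective e he, hi]) :
      IsPGroup 2 (Subgroup.zpowers (e t))).exists_le_sylow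
    obtain ⟨c', hc'⟩ := MulAction.exists_smul_eq (Perm α) P T'
    have hmem' : c'⁻¹ * e t * c' ∈ P := by
      have h1 : e t ∈ ((c' • P : Sylow 2 (Perm α)) : Subgroup (Perm α)) := by
        rw [hc']; exact hT' (Subgroup.mem_zpowers _)
      rw [Sylow.coe_subgroup_smul] at h1
      obtain ⟨y, hy, hy'⟩ := h1
      change c' * y * c'⁻¹ = e t at hy'
      rw [← hy']
      simpa [mul_assoc] using hy
    have hA : ∀ d', x d' = d' → c' d' = a := by
      intro d' hd'
      by_contra hne'
      have h1 : e t (c' d') = c' d' := by simpa using congrArg c' (hall d' hd' _ hmem')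
      exact htf ⟨c' d', hne'⟩ (Subtype.ext ((Equiv.Perm.ofSubtype_apply_coe t ⟨c' d', hne'⟩).symm.trans h1))
    exact hne (c'.injective ((hA b hb).trans (hA a hxa).symm))
  -- transfer the conclusion
  apply hbad
  refine ⟨fun u v hu' hv' huv => ?_, ?_⟩
  · have hua : u ≠ a := fun h => hu' (h ▸ hxa)
    have hva : v ≠ a := fun h => hv' (h ▸ hxa)
    have hper : ∀ z : β, period x' z = period x z.1 := fun z => Nat.dvd_antisymm
      (by rw [← pow_eq_iff]; exact Subtype.ext ((hkk _ z).trans ((pow_eq_iff x _ _).2 dvd_rfl)))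
      (by rw [← pow_eq_iff, ← hkk, (pow_eq_iff x' _ _).2 dvd_rfl])
    obtain ⟨i, hi⟩ := (sameCycle_iff x' _ _).1 (hgood'.1 ⟨u, hua⟩ ⟨v, hva⟩ (fun h => hu' (congrArg Subtype.val h))
      (fun h => hv' (congrArg Subtype.val h)) (by rw [hper, hper]; exact huv))
    exact (sameCycle_iff x u v).2 ⟨i, (hkk i _).symm.trans (congrArg Subtype.val hi)⟩
  · refine le_trans (Finite.card_le_one_iff_subsingleton.2 ⟨fun u v => Subtype.ext ?_⟩) one_le_two
    rw [hone u.1 u.2, hone v.1 v.2]

end Cfsg.Agent.SymSylow
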