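import Mathlib

/-!
# Pairings (fixed point free involutions) commuting with a `2`-element of a symmetric group
-/

set_option autoImplicit false

namespace Cfsg.Agent.SymSylow

open Equiv Equiv.Perm MulAction

variable {α : Type*} [Finite α]

/-- A fixed point free involution. -/
def Pairing (w : Perm α) : Prop := (∀ z, w (w z) = z) ∧ ∀ z, w z ≠ z

/-- Cycles of a given nontrivial length are unique and there are at most two fixed points. -/
def Good (x : Perm α) : Prop :=
  (∀ a b, x a ≠ a → x b ≠ b → period x a = period x b → x.SameCycle a b) ∧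
    Nat.card {z // x z = z} ≤ 2

theorem pow_eq_iff (x : Perm α) (k : ℕ) (z : α) : (x ^ k) z = z ↔ period x z ∣ k :=
  MulAction.pow_smul_eq_iff_period_dvd (m := x) (a := z) (n := k)

theorem period_eq_one (x : Perm α) (z : α) : period x z = 1 ↔ x z = z := by
  rw [← Nat.dvd_one, ← pow_eq_iff, pow_one]

theorem period_commute {x g : Perm α} (h : Commute g x) (z : α) : period x (g z) = period x z := by
  have key : ∀ k, (x ^ k) (g z) = g ((x ^ k) z) := fun k => by
    rw [← Perm.mul_apply, ← (h.pow_right k).eq, Perm.mul_apply]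
  refine Nat.dvd_antisymm ?_ ?_
  · rw [← pow_eq_iff, key, (pow_eq_iff x _ z).2 dvd_rfl]
  · rw [← pow_eq_iff]
    apply g.injective
    rw [← key, (pow_eq_iff x _ (g z)).2 dvd_rfl]

theorem period_pow_apply (x : Perm α) (k : ℕ) (z : α) : period x ((x ^ k) z) = period x z :=
  period_commute ((Commute.refl x).pow_left k) z

theorem sameCycle_iff (x : Perm α) (a b : α) : x.SameCycle a b ↔ ∃ k : ℕ, (x ^ k) a = b := by
  constructor
  · intro h
    obtain ⟨k, -, hk⟩ := h.exists_pow_eq'
    exact ⟨k, hk⟩
  · rintro ⟨k, rfl⟩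
    exact ⟨k, by rw [zpow_natCast]⟩

theorem period_sameCycle {x : Perm α} {a b : α} (h : x.SameCycle a b) :
    period x b = period x a := by
  obtain ⟨k, rfl⟩ := (sameCycle_iff x a b).1 h
  exact period_pow_apply x k a

theorem two_dvd_period {x : Perm α} (hx : ∃ k : ℕ, orderOf x = 2 ^ k) {z : α} (hz : x z ≠ z) :
    2 ∣ period x z := by
  obtain ⟨k, hk⟩ := hx
  have h1 : period x z ∣ 2 ^ k := by
    rw [← pow_eq_iff, ← hk, pow_orderOf_eq_one, Perm.one_apply]
  obtain ⟨i, -, hi⟩ := (Nat.dvd_prime_pow Nat.prime_two).1 h1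
  rcases i with - | i
  · exact absurd ((period_eq_one x z).1 hi) hz
  · exact hi ▸ dvd_pow_self 2 (Nat.succ_ne_zero i)

theorem period_pos' (x : Perm α) (z : α) : 0 < period x z := by
  refine Nat.pos_of_ne_zero fun h => ?_
  have h1 : period x z ∣ orderOf x := by
    rw [← pow_eq_iff, pow_orderOf_eq_one, Perm.one_apply]
  rw [h] at h1
  exact (orderOf_pos x).ne' (Nat.eq_zero_of_zero_dvd h1)

/-- A commuting pairing keeping a cycle is its half rotation. -/
theorem pairing_apply_of_sameCycle {x w : Perm α} (hw : Pairing w) (hc : Commute w x) {z : α}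
    (hs : x.SameCycle z (w z)) : w z = (x ^ (period x z / 2)) z ∧ 2 ∣ period x z := by
  obtain ⟨k, hk⟩ := (sameCycle_iff x z (w z)).1 hs
  set P := period x z with hP
  have hP0 : 0 < P := period_pos' x z
  set i := k % P with hi
  have hki : (x ^ i) z = w z := by
    rw [← hk]
    conv_rhs => rw [← Nat.mod_add_div k P, pow_add, Perm.mul_apply,
      (pow_eq_iff x (P * (k / P)) z).2 (dvd_mul_right _ _)]
  have h2 : P ∣ i + i := by
    rw [hP, ← pow_eq_iff, pow_add, Perm.mul_apply, hki, ← Perm.mul_apply,
      ← (hc.pow_right i).eq, Perm.mul_apply, hki, hw.1]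
  have hi0 : i ≠ 0 := fun h => hw.2 z (by rw [← hki, h, pow_zero, Perm.one_apply])
  have hilt : i < P := Nat.mod_lt _ hP0
  obtain ⟨c, hc'⟩ := h2
  have hc1 : c = 1 := by
    rcases lt_trichotomy c 1 with h | h | h
    · interval_cases c; omega
    · exact h
    · have := Nat.mul_le_mul_left P (h : 2 ≤ c); omega
  subst hc1
  refine ⟨?_, ⟨i, by omega⟩⟩
  rw [← hki]
  congr 2
  omega

theorem pairing_unique {x w w' : Perm α} (hx : Good x) (hw : Pairing w) (hw' : Pairing w')
    (hc : Commute w x) (hc' : Commute w' x) : w = w' := by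
  classical
  have := Fintype.ofFinite α
  refine Equiv.ext fun z => ?_
  by_cases hz : x z = z
  · by_contra hne
    have hfix : ∀ g : Perm α, Commute g x → x (g z) = g z := fun g hg => by
      rw [← Perm.mul_apply, ← hg.eq, Perm.mul_apply, hz]
    have h3 : 3 ≤ Nat.card {y // x y = y} := by
      rw [Nat.card_eq_fintype_card, Fintype.card_subtype]
      have hsub : ({z, w z, w' z} : Finset α) ⊆ Finset.univ.filter fun y => x y = y := by
        intro y hy
        simp only [Finset.mem_insert, Finset.mem_singleton] at hy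
        rcases hy with rfl | rfl | rfl
        · simp [hz]
        · simp [hfix w hc]
        · simp [hfix w' hc']
      refine le_trans ?_ (Finset.card_le_card hsub)
      rw [Finset.card_insert_of_notMem (by simp [Ne.symm (hw.2 z), Ne.symm (hw'.2 z)]),
        Finset.card_pair hne]
    have := hx.2
    omega
  · have key : ∀ g : Perm α, Pairing g → Commute g x → g z = (x ^ (period x z / 2)) z := by
      intro g hg hgc
      refine (pairing_apply_of_sameCycle hg hgc (hx.1 z (g z) hz (fun h => hz ?_)
        (period_commute hgc z).symm)).1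
      rw [← Perm.mul_apply, ← hgc.eq, Perm.mul_apply] at h
      exact g.injective h
    rw [key w hw hc, key w' hw' hc']

theorem commute_of_apply {w x : Perm α} (h : ∀ z, w (x z) = x (w z)) : Commute w x :=
  Equiv.ext h

/-- If the cycle lengths are not distinct there is a second commuting pairing. -/
theorem exists_ne_pairing {x w : Perm α} (hx : ∃ k : ℕ, orderOf x = 2 ^ k) (hn : ¬ Good x)
    (hw : Pairing w) (hc : Commute w x) : ∃ w' : Perm α, Pairing w' ∧ Commute w' x ∧ w' ≠ w := by
  classical
  by_cases hfix : Nat.card {z // x z = z} ≤ 2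
  swap
  · -- conjugate by a transposition of two fixed points
    have := Fintype.ofFinite α
    have hcard : 2 < (Finset.univ.filter fun z => x z = z).card := by
      rw [← Fintype.card_subtype, ← Nat.card_eq_fintype_card]; omega
    obtain ⟨a, ha⟩ := Finset.card_pos.1 (by omega : 0 < (Finset.univ.filter fun z => x z = z).card)
    obtain ⟨c, hc1, hc2⟩ : ∃ c ∈ Finset.univ.filter (fun z => x z = z), c ∉ ({a, w a} : Finset α) := by
      by_contra h
      push Not at h
      have := (Finset.card_le_card h).trans Finset.card_le_two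
      omega
    simp only [Finset.mem_filter, Finset.mem_univ, true_and] at ha hc1
    simp only [Finset.mem_insert, Finset.mem_singleton, not_or] at hc2
    have hwa : x (w a) = w a := by rw [← Perm.mul_apply, ← hc.eq, Perm.mul_apply, ha]
    set s := Equiv.swap (w a) c with hs
    have hsx : Commute s x := commute_of_apply fun z => by
      rw [hs, x.injective.map_swap, hwa, hc1]
    refine ⟨s * w * s⁻¹, ⟨fun z => ?_, fun z h => ?_⟩, (hsx.mul_left hc).mul_left hsx.inv_left, fun h => ?_⟩
    · simp only [Perm.mul_apply, Perm.inv_def, Equiv.symm_apply_apply, hw.1, Equiv.apply_symm_apply]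
    · simp only [Perm.mul_apply] at h
      exact hw.2 (s⁻¹ z) (by rw [Perm.inv_def, s.eq_symm_apply]; exact h)
    · have h1 := Equiv.congr_fun h a
      rw [Perm.mul_apply, Perm.mul_apply, hs, swap_inv,
        swap_apply_of_ne_of_ne (hw.2 a).symm (Ne.symm hc2.1), swap_apply_left] at h1
      exact hc2.2 h1
  obtain ⟨a, b, ha, hb, hP, hs⟩ : ∃ a b, x a ≠ a ∧ x b ≠ b ∧ period x a = period x b ∧ ¬ x.SameCycle a b := by
    by_contra h
    push Not at h
    exact hn ⟨h, hfix⟩
  have hsc : ∀ (c z : α), x.SameCycle c (x z) ↔ x.SameCycle c z := fun c z => sameCycle_apply_right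
  have hwsc : ∀ c z : α, x.SameCycle c z → x.SameCycle (w c) (w z) := by
    intro c z h
    obtain ⟨k, rfl⟩ := (sameCycle_iff x c z).1 h
    refine (sameCycle_iff x _ _).2 ⟨k, ?_⟩
    rw [← Perm.mul_apply, ← (hc.pow_right k).eq, Perm.mul_apply]
  by_cases hcase : ∃ c, x c ≠ c ∧ ¬ x.SameCycle c (w c)
  · -- half rotations on the two cycles exchanged by `w`
    obtain ⟨c, hcx, hcs⟩ := hcase
    let R : α → Prop := fun z => x.SameCycle c z ∨ x.SameCycle (w c) z
    set L := period x c with hL
    obtain ⟨h, hh⟩ := two_dvd_period hx hcx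
    let f : α → α := fun z => if R z then (x ^ h) z else w z
    have hRper : ∀ z, R z → period x z = L := by
      rintro z (hz | hz)
      · exact period_sameCycle hz
      · rw [period_sameCycle hz, period_commute hc]
    have hR1 : ∀ z, R (w z) ↔ R z := by
      intro z
      constructor
      · rintro (hz | hz)
        · right; simpa [hw.1] using hwsc _ _ hz
        · left; simpa [hw.1] using hwsc _ _ hz
      · rintro (hz | hz)
        · exact Or.inr (hwsc _ _ hz)
        · left; simpa [hw.1] using hwsc _ _ hz
    have hR2 : ∀ z, R ((x ^ h) z) ↔ R z := fun z =>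
      or_congr sameCycle_pow_right sameCycle_pow_right
    have hR3 : ∀ z, R (x z) ↔ R z := fun z => or_congr sameCycle_apply_right sameCycle_apply_right
    have hinv : Function.Involutive f := by
      intro z
      by_cases hz : R z
      · rw [show f z = (x ^ h) z from if_pos hz, show f ((x ^ h) z) = _ from if_pos ((hR2 z).2 hz), ← Perm.mul_apply, ← pow_add, pow_eq_iff, hRper z hz, hL, hh]
        exact dvd_of_eq (by ring)
      · rw [show f z = w z from if_neg hz, show f (w z) = _ from if_neg (fun h' => hz ((hR1 z).1 h')), hw.1]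
    refine ⟨hinv.toPerm, ⟨hinv, fun z => ?_⟩, commute_of_apply fun z => ?_, fun he => ?_⟩
    · show f z ≠ z
      by_cases hz : R z
      · simp only [f, if_pos hz]
        rw [Ne, pow_eq_iff, hRper z hz, hL, hh]
        intro hd
        have h0 : 0 < h := by have := period_pos' x c; omega
        have := Nat.le_of_dvd h0 hd
        omega
      · simp only [f, if_neg hz]; exact hw.2 z
    · show f (x z) = x (f z)
      by_cases hz : R z
      · simp only [f, if_pos hz, if_pos ((hR3 z).2 hz)]
        rw [← Perm.mul_apply, ← pow_succ, pow_succ', Perm.mul_apply]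
      · simp only [f, if_neg hz, if_neg (fun h' => hz ((hR3 z).1 h'))]
        rw [← Perm.mul_apply, hc.eq, Perm.mul_apply]
    · apply hcs
      have h1 : f c = w c := Equiv.congr_fun he c
      simp only [f, if_pos (show R c from Or.inl (SameCycle.refl x c))] at h1
      rw [← h1]
      exact sameCycle_pow_right.2 (SameCycle.refl x c)
  · -- `w` keeps all cycles: exchange the cycles of `a` and `b`
    push Not at hcase
    let f : α → α := fun z =>
      if h : x.SameCycle a z then (x ^ ((sameCycle_iff x a z).1 h).choose) b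
      else if h : x.SameCycle b z then (x ^ ((sameCycle_iff x b z).1 h).choose) a
      else w z
    have hwd : ∀ {c d : α}, period x c = period x d → ∀ i j : ℕ, (x ^ i) c = (x ^ j) c →
        (x ^ i) d = (x ^ j) d := by
      intro c d hcd i j hij
      wlog hle : i ≤ j generalizing i j
      · exact (this j i hij.symm (le_of_not_ge hle)).symm
      obtain ⟨l, rfl⟩ := Nat.exists_eq_add_of_le hle
      rw [pow_add, Perm.mul_apply] at hij
      have h1 : (x ^ l) c = c := ((x ^ i).injective hij).symm
      rw [pow_eq_iff, hcd, ← pow_eq_iff] at h1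
      rw [pow_add, Perm.mul_apply, h1]
    have hfa : ∀ i : ℕ, f ((x ^ i) a) = (x ^ i) b := by
      intro i
      have hh : x.SameCycle a ((x ^ i) a) := sameCycle_pow_right.2 (SameCycle.refl x a)
      simp only [f, dif_pos hh]
      exact hwd hP _ _ ((sameCycle_iff x a _).1 hh).choose_spec
    have hfb : ∀ i : ℕ, f ((x ^ i) b) = (x ^ i) a := by
      intro i
      have hn' : ¬ x.SameCycle a ((x ^ i) b) := fun h => hs (sameCycle_pow_right.1 h)
      have hh : x.SameCycle b ((x ^ i) b) := sameCycle_pow_right.2 (SameCycle.refl x b)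
      simp only [f, dif_neg hn', dif_pos hh]
      exact hwd hP.symm _ _ ((sameCycle_iff x b _).1 hh).choose_spec
    have hfo : ∀ z, ¬ x.SameCycle a z → ¬ x.SameCycle b z → f z = w z := fun z h1 h2 => by
      simp only [f, dif_neg h1, dif_neg h2]
    have hkeep : ∀ c z, x c ≠ c → x.SameCycle c (w z) → x.SameCycle c z := by
      intro c z hcx hh
      have h1 := hwsc _ _ hh
      rw [hw.1] at h1
      exact (hcase c hcx).trans h1
    have hinv : Function.Involutive f := by
      intro z
      by_cases h1 : x.SameCycle a z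
      · obtain ⟨i, rfl⟩ := (sameCycle_iff x a z).1 h1
        rw [hfa, hfb]
      by_cases h2 : x.SameCycle b z
      · obtain ⟨i, rfl⟩ := (sameCycle_iff x b z).1 h2
        rw [hfb, hfa]
      rw [hfo z h1 h2, hfo _ (fun h => h1 (hkeep a z ha h)) (fun h => h2 (hkeep b z hb h)), hw.1]
    refine ⟨hinv.toPerm, ⟨hinv, fun z => ?_⟩, commute_of_apply fun z => ?_, fun he => ?_⟩
    · show f z ≠ z
      intro hz
      by_cases h1 : x.SameCycle a z
      · obtain ⟨i, rfl⟩ := (sameCycle_iff x a z).1 h1
        rw [hfa] at hz
        exact hs (((x ^ i).injective hz) ▸ SameCycle.refl x a)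
      by_cases h2 : x.SameCycle b z
      · obtain ⟨i, rfl⟩ := (sameCycle_iff x b z).1 h2
        rw [hfb] at hz
        exact hs (((x ^ i).injective hz) ▸ SameCycle.refl x a)
      exact hw.2 z (by rw [← hfo z h1 h2]; exact hz)
    · show f (x z) = x (f z)
      by_cases h1 : x.SameCycle a z
      · obtain ⟨i, rfl⟩ := (sameCycle_iff x a z).1 h1
        rw [hfa, ← Perm.mul_apply, ← Perm.mul_apply, ← pow_succ', hfa]
      by_cases h2 : x.SameCycle b z
      · obtain ⟨i, rfl⟩ := (sameCycle_iff x b z).1 h2
        rw [hfb, ← Perm.mul_apply, ← Perm.mul_apply, ← pow_succ', hfb]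
      rw [hfo z h1 h2, hfo _ (fun h => h1 ((hsc a z).1 h)) (fun h => h2 ((hsc b z).1 h)),
        ← Perm.mul_apply, hc.eq, Perm.mul_apply]
    · apply hs
      have h1 : f a = w a := Equiv.congr_fun he a
      have h2 := hfa 0
      simp only [pow_zero, Perm.one_apply] at h2
      rw [h2] at h1
      rw [h1]
      exact hcase a ha

end Cfsg.Agent.SymSylow
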